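import Groth.Agent.H26Def.MonoIdeal
import Groth.Agent.H29Blow.IdealMod
import Groth.Agent.H22Alg.FatPoints
import Groth.Agent.H11Tilde.ModLoc
import Groth.Agent.H10Coh.TwistExact

/-!
# Subobjects of the structure module and ideal sheaves
-/

set_option autoImplicit false
set_option linter.style.haveILetI false
set_option backward.isDefEq.respectTransparency false
set_option maxHeartbeats 800000

universe u

open CategoryTheory CategoryTheory.Limits AlgebraicGeometry

namespace Groth.Agent.H7AdjExt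

variable {X : Scheme.{u}}

/-- An inclusion of ideal modules over `O` is an inclusion of ideals. -/
theorem le_of_fac {A B : X.IdealSheafData} (f : ClSub.idealMod A ⟶ ClSub.idealMod B)
    (hf : f ≫ ClSub.idealModι B = ClSub.idealModι A) : A ≤ B := by
  intro U a ha
  obtain ⟨m, rfl⟩ := (H29Blow.mem_ideal_iff_exists_idealSect A U.2 a).1 ha
  refine (H29Blow.mem_ideal_iff_exists_idealSect B U.2 _).2 ⟨f.app U.1 m, ?_⟩
  rw [OmegaSh.idealSect_apply, OmegaSh.idealSect_apply]
  exact congrArg (OmegaSh.fnSect X U.1) congr($(congrArg (fun g => Scheme.Modules.Hom.app g U.1) hf) m)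

/-- A quasi-coherent submodule of `O` is an ideal module. -/
theorem exists_idealMod_iso {M : X.Modules} (ι : M ⟶ Coh.structureModule X) [Mono ι]
    (hM : M.IsQuasicoherent) :
    ∃ (I : X.IdealSheafData) (φ : M ≅ ClSub.idealMod I), φ.hom ≫ ClSub.idealModι I = ι := by
  let I := H26Def.imageData ι hM
  have hz : ∀ (U : X.affineOpens) (m : Γ(M, U.1)), (ClSub.toSubscheme I).app U.1 (ι.app U.1 m) = 0 := by
    intro U m
    obtain ⟨z, hz⟩ := (H29Blow.mem_ideal_iff_exists_idealSect I U.2 _).1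
      ((H26Def.mem_imageData ι hM U (OmegaSh.fnSect X U.1 (ι.app U.1 m))).2 ⟨m, rfl⟩)
    rw [OmegaSh.idealSect_apply] at hz
    have hz' : (ClSub.idealModι I).app U.1 z = ι.app U.1 m := hz
    rw [← hz']
    show (ClSub.idealModι I ≫ ClSub.toSubscheme I).app U.1 z = 0
    rw [show ClSub.idealModι I ≫ ClSub.toSubscheme I = 0 from kernel.condition _]
    rfl
  have w : ι ≫ ClSub.toSubscheme I = 0 := by
    refine Scheme.Modules.hom_ext _ _ fun W => ?_
    ext t
    refine H11Tilde.eq_of_locally _ _ fun x hx => ?_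
    obtain ⟨U, hU, hxU, hUW⟩ := exists_isAffineOpen_mem_and_subset hx
    refine ⟨U, hUW, hxU, ?_⟩
    rw [← H11Tilde.app_map_apply, ← H11Tilde.app_map_apply]
    exact (hz ⟨U, hU⟩ _).trans rfl
  let φ : M ⟶ ClSub.idealMod I := kernel.lift (ClSub.toSubscheme I) ι w
  have hφ : φ ≫ ClSub.idealModι I = ι := kernel.lift_ι _ _ _
  haveI : Mono φ := mono_of_mono_fac hφ
  haveI : Epi φ := by
    refine H11Tilde.epi_of_locally_surjective φ fun W t x hx => ?_
    obtain ⟨U, hU, hxU, hUW⟩ := exists_isAffineOpen_mem_and_subset hx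
    refine ⟨U, hUW, hxU, ?_⟩
    let s := (ClSub.idealMod I).presheaf.map (homOfLE (show U ≤ W from hUW)).op t
    obtain ⟨m, hm⟩ := (H26Def.mem_imageData ι hM ⟨U, hU⟩ _).1
      ((H29Blow.mem_ideal_iff_exists_idealSect I hU (OmegaSh.idealSect I U s)).2 ⟨s, rfl⟩)
    refine ⟨m, H29Blow.idealSect_injective I U ?_⟩
    rw [OmegaSh.idealSect_apply, ← hm]
    exact congrArg (OmegaSh.fnSect X U) congr($(congrArg (fun g => Scheme.Modules.Hom.app g U) hφ) m)
  haveI := isIso_of_mono_of_epi φ
  exact ⟨I, asIso φ, hφ⟩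

end Groth.Agent.H7AdjExt
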