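import Groth.Agent.H7AdjExt.IdealSub
import Groth.Agent.H10Coh.K3Surf.Extend
import Groth.Agent.H23SB.RightKer
import Groth.Agent.H8Props.DvrCurve.GeomInt
import Groth.Agent.H25Euler.ParSh
import Groth.Agent.H26TF1.Defect
import Groth.Agent.S1689
import Groth.Agent.H05EGA4.LefConn
import Groth.Agent.H22Alg.IdealPowFam
import Groth.Agent.H17.EdgeIso.Stalk
import Groth.Agent.H29RR.EvalPoint
import Groth.Agent.H02CA.SurfStab.Main

/-!
# Extensions of ideals of points by invertible modules which are not locally free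
-/

set_option autoImplicit false
set_option linter.style.haveILetI false
set_option linter.unusedSectionVars false
set_option backward.isDefEq.respectTransparency false
set_option maxHeartbeats 1600000
set_option synthInstance.maxHeartbeats 400000

universe u

open CategoryTheory CategoryTheory.Limits AlgebraicGeometry TopologicalSpace Opposite

namespace Groth.Agent.H7AdjExt

open Groth.Agent.H06Mod

theorem isTorsionFree_of_shortExact {X : Scheme.{u}} {S : ShortComplex X.Modules} (hS : S.ShortExact)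
    (h₁ : TorSh.IsTorsionFree S.X₁) (h₃ : TorSh.IsTorsionFree S.X₃) : TorSh.IsTorsionFree S.X₂ := by
  intro x
  haveI : Module.IsTorsionFree (X.presheaf.stalk x) (S.X₁.presheaf.stalk x) := h₁ x
  haveI : Module.IsTorsionFree (X.presheaf.stalk x) (S.X₃.presheaf.stalk x) := h₃ x
  have hT := hS.map_of_exact (DerSch.stalkFunctor X x)
  refine ⟨fun r hr v w h => sub_eq_zero.1 ?_⟩
  have h0 : r • (v - w) = 0 := by rw [smul_sub]; exact sub_eq_zero.2 h
  have hg : stalkLin S.g x (v - w) = 0 := (Module.IsTorsionFree.isSMulRegular hr).right_eq_zero_of_smul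
    ((map_smul (stalkLin S.g x) r _).symm.trans (by rw [h0, map_zero]))
  obtain ⟨m₀, hm⟩ := (ShortComplex.moduleCat_exact_iff _).1 hT.exact (v - w) hg
  let m : S.X₁.presheaf.stalk x := m₀
  have hm' : stalkLin S.f x m = v - w := hm
  haveI := hS.mono_f
  have : m = 0 := (Module.IsTorsionFree.isSMulRegular hr).right_eq_zero_of_smul
    (H17.KoszTwist.stalk_injective_of_mono S.f x (by rw [map_smul, hm', h0, map_zero]))
  rw [← hm', this, map_zero]

variable {k : Type u} [Field k] {X : Scheme.{u}} [X.Over (Spec (CommRingCat.of k))]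
  [IsProper (X ↘ Spec (CommRingCat.of k))] [IsIntegral X]

theorem dim_lt_of_finite (k : Type u) [Field k] {X : Scheme.{u}} [X.Over (Spec (CommRingCat.of k))]
    [IsProper (X ↘ Spec (CommRingCat.of k))] {S : Set X} (hS : IsClosed S) (hf : S.Finite) :
    topologicalKrullDim S < ((1 : ℕ) : WithBot ℕ∞) := by
  haveI : JacobsonSpace X := LocallyOfFiniteType.jacobsonSpace (X ↘ Spec (CommRingCat.of k))
  haveI : Finite S := hf
  haveI : T1Space S := ⟨fun y =>
    hS.isClosedEmbedding_subtypeVal.isClosed_iff_image_isClosed.2 (by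
      rw [Set.image_singleton]
      exact H29Curve.isClosed_singleton_of_finite_of_isClosed hS hf y.2)⟩
  exact (topologicalKrullDim_zero_of_discreteTopology S).trans_lt (by exact_mod_cast one_pos)

include k in
/-- A map into a torsion free module killed by a map with small cokernel is zero. -/
theorem eq_zero_of_small (hX : topologicalKrullDim X = ((2 : ℕ) : WithBot ℕ∞)) {W M Q : X.Modules}
    (hM : Coh.IsCoh M) (hW : Coh.IsCoh W) (hQ : Coh.IsCoh Q) (htQ : TorSh.IsTorsionFree Q) (χ : W ⟶ M)
    (hd : topologicalKrullDim (CohB1.support (cokernel χ)) < ((1 : ℕ) : WithBot ℕ∞))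
    (g : M ⟶ Q) (hg : χ ≫ g = 0) : g = 0 := by
  haveI := H10Coh.Stab.isLocallyNoetherian_of_proper (Z := X) k
  refine H26TF1.eq_zero_of_generic hQ htQ g fun η hη a => ?_
  obtain rfl : η = genericPoint X := (genericPoints_eq_singleton (α := X)).le hη
  have hC := H10Coh.isCoh_cokernel χ hW.1 hM
  have hn : genericPoint X ∉ CohB1.support (cokernel χ) := fun h => by
    have hu : CohB1.support (cokernel χ) = Set.univ := Set.eq_univ_of_univ_subset (by
      rw [← genericPoint_spec X]
      exact closure_minimal (Set.singleton_subset_iff.2 h) (H10Coh.isClosed_support _ hC.2))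
    rw [hu, IsHomeomorph.topologicalKrullDim_eq _ (Homeomorph.Set.univ X).isHomeomorph, hX] at hd
    exact absurd hd (by norm_cast)
  rw [← cokernel.π_desc χ g hg, H29Omega.stalkLin_comp]
  rw [(not_not.1 hn : Subsingleton _).elim (stalkLin (cokernel.π χ) (genericPoint X) a) 0, map_zero]

omit [X.Over (Spec (CommRingCat.of k))] [IsProper (X ↘ Spec (CommRingCat.of k))] in
theorem support_cokernel_incl {A B : X.IdealSheafData} (φ : ClSub.idealMod A ⟶ ClSub.idealMod B)
    (hφ : φ ≫ ClSub.idealModι B = ClSub.idealModι A) :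
    CohB1.support (cokernel φ) ⊆ (A.support : Set X) := by
  intro x hx
  by_contra hxA
  let Φ := DerSch.stalkFunctor X x
  haveI := H25Euler.isIso_stalk_idealModι A hxA
  haveI : Mono (ClSub.idealModι B) := inferInstanceAs (Mono (kernel.ι _))
  haveI : IsIso (Φ.map φ ≫ Φ.map (ClSub.idealModι B)) := by rw [← Functor.map_comp, hφ]; infer_instance
  haveI : IsSplitEpi (Φ.map (ClSub.idealModι B)) :=
    IsSplitEpi.mk' ⟨inv (Φ.map φ ≫ Φ.map (ClSub.idealModι B)) ≫ Φ.map φ, by simp⟩
  haveI : IsIso (Φ.map (ClSub.idealModι B)) := isIso_of_mono_of_epi _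
  haveI : IsIso (Φ.map φ) := IsIso.of_isIso_comp_right (Φ.map φ) (Φ.map (ClSub.idealModι B))
  exact hx (ModuleCat.subsingleton_of_isZero
    (IsZero.of_iso (isZero_cokernel_of_epi (Φ.map φ)) (PreservesCokernel.iso Φ φ)))

include k in
/-- A torsion free coherent module sits in a bundle with small cokernel. -/
theorem exists_hull (hX : topologicalKrullDim X = ((2 : ℕ) : WithBot ℕ∞))
    (hreg : ∀ x : X, IsRegularLocalRing (X.presheaf.stalk x)) {F : X.Modules} (hF : Coh.IsCoh F)
    (htF : TorSh.IsTorsionFree F) :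
    ∃ (G : X.Modules) (χ : F ⟶ G), FlatMod.IsFinLocFree G ∧ Coh.IsCoh G ∧ Mono χ ∧
      topologicalKrullDim (CohB1.support (cokernel χ)) < ((1 : ℕ) : WithBot ℕ∞) := by
  haveI := H10Coh.Stab.isLocallyNoetherian_of_proper (Z := X) k
  have hnor := H29Ref.isNormalScheme_of_regular hreg
  have hG := H29Ref.isCoh_ddual F hF
  let χ := RefHull.bidualMap F
  have hFp := H10Coh.isFP_of_isCoh F hF
  have hbij : ∀ x, ringKrullDim (X.presheaf.stalk x) ≤ 1 → Function.Bijective (RefHull.stalkMapₗ χ x) := by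
    intro x hx
    haveI := H29Ref.finite_stalk F hF.2 x
    haveI : Module.IsTorsionFree (X.presheaf.stalk x) (F.presheaf.stalk x) := htF x
    haveI := H29Ref.free_of_dim_le_one hnor x hx (F.presheaf.stalk x)
    exact (H29Ref.isReflexiveAt_iff F hFp (H29Ref.isFP_dual F hF) x).1
      (inferInstance : Module.IsReflexive (X.presheaf.stalk x) (F.presheaf.stalk x))
  haveI : Mono χ := by
    refine Preadditive.mono_of_kernel_zero (H26TF1.eq_zero_of_generic hF htF _ fun η hη a => ?_)
    obtain rfl : η = genericPoint X := (genericPoints_eq_singleton (α := X)).le hη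
    apply (H29Ref.bijective_bidual_generic F hF).1
    show stalkLin χ _ (stalkLin (kernel.ι χ) _ a) = RefHull.stalkMapₗ χ _ 0
    rw [← H29Omega.stalkLin_comp, kernel.condition, map_zero]
    exact H17.KoszTwist.stalkLin_zero _ _
  have hC := H10Coh.isCoh_cokernel χ hF.1 hG
  refine ⟨_, χ, (S1689.result X hreg hX.le _ hG).1
    ((H29Ref.isReflexive_iff _ hG).1 (H29Ref.isReflexive_ddual F hF)), hG, inferInstance,
    H10Coh.K3Surf.dim_lt_one_of_two_le (k := k) hX (H10Coh.isClosed_support _ hC.2) fun x hx => ?_⟩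
  by_contra hlt
  push Not at hlt
  let Φ := DerSch.stalkFunctor X x
  haveI : IsIso (Φ.map χ) := (ConcreteCategory.isIso_iff_bijective _).2
    (hbij x (Order.le_of_lt_succ (by exact_mod_cast hlt)))
  exact hx (ModuleCat.subsingleton_of_isZero
    (IsZero.of_iso (isZero_cokernel_of_epi (Φ.map χ)) (PreservesCokernel.iso Φ χ)))

include k in
theorem main (hX : topologicalKrullDim X = ((2 : ℕ) : WithBot ℕ∞))
    (hreg : ∀ x : X, IsRegularLocalRing (X.presheaf.stalk x))
    (M : X.Modules) (hM : PicF.IsInvertible M)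
    (IZ : X.IdealSheafData) (hZ : (IZ.support : Set X).Finite)
    (F : X.Modules) (a : M ⟶ F) (b : F ⟶ ClSub.idealMod IZ) (w : a ≫ b = 0)
    (hex : (ShortComplex.mk a b w).ShortExact) :
    ¬ FlatMod.IsFinLocFree F ↔
      ∃ (I' : X.IdealSheafData) (F' : X.Modules) (a' : M ⟶ F') (b' : F' ⟶ ClSub.idealMod I') (w' : a' ≫ b' = 0)
        (φ : ClSub.idealMod IZ ⟶ ClSub.idealMod I') (g : F ⟶ F'),
        IZ < I' ∧ (ShortComplex.mk a' b' w').ShortExact ∧ φ ≫ ClSub.idealModι I' = ClSub.idealModι IZ ∧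
          a ≫ g = a' ∧ g ≫ b' = b ≫ φ := by
  haveI := H10Coh.Stab.isLocallyNoetherian_of_proper (Z := X) k
  let O := Coh.structureModule X
  have hO : Coh.IsCoh O := H10Coh.isCoh_structureModule' X
  have hOt : TorSh.IsTorsionFree O := H23SB.RightKer.isTorsionFree_structure X
  have hIc : ∀ I : X.IdealSheafData, Coh.IsCoh (ClSub.idealMod I) := fun I => H22Alg.IdealPowFam.isCoh_idealMod I
  haveI hιm : ∀ I : X.IdealSheafData, Mono (ClSub.idealModι I) := fun I => inferInstanceAs (Mono (kernel.ι _))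
  have hIt : ∀ I : X.IdealSheafData, TorSh.IsTorsionFree (ClSub.idealMod I) := fun I =>
    H26TF1.isTorsionFree_of_mono' (ClSub.idealModι I) hOt
  have hMc := H11Ample.isCoh_of_isInvertible hM
  have hMt := H10Coh.K3Surf.isTorsionFree_inv (k := k) hM
  have hFc : Coh.IsCoh F := H10Coh.isCoh_X₂ hex hMc (hIc IZ)
  have hFt : TorSh.IsTorsionFree F := isTorsionFree_of_shortExact hex hMt (hIt IZ)
  haveI := hex.mono_f
  haveI := hex.epi_g
  have hsmall : ∀ {I' : X.IdealSheafData} (φ : ClSub.idealMod IZ ⟶ ClSub.idealMod I'),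
      φ ≫ ClSub.idealModι I' = ClSub.idealModι IZ →
        topologicalKrullDim (CohB1.support (cokernel φ)) < ((1 : ℕ) : WithBot ℕ∞) := fun {I'} φ hφ =>
    H25Euler.dim_lt_of_subset (support_cokernel_incl φ hφ) (dim_lt_of_finite k IZ.support.isClosed hZ)
  constructor
  · intro hF
    obtain ⟨G, χ, hG, hGc, hχ, hd⟩ := exists_hull (k := k) hX hreg hFc hFt
    have hGt : TorSh.IsTorsionFree G := H25Par.isTorsionFree_of_locFree hG
    obtain ⟨β, hβ⟩ := H10Coh.K3Surf.exists_extension (k := k) hX hreg hFc hGc hO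
      (H02CA.SurfStab.isReflexive_of_vb (H05EGA4.LefConn.isFinLocFree_unit X) hO) χ hd
      (b ≫ ClSub.idealModι IZ)
    have h0 : (a ≫ χ) ≫ β = 0 := by rw [Category.assoc, hβ, reassoc_of% w, zero_comp]
    -- the image of the extension
    haveI : Mono (kernel.ι (cokernel.π β)) := inferInstance
    have hJc : Coh.IsCoh (Abelian.image β) :=
      H10Coh.isCoh_kernel (cokernel.π β) hO (H10Coh.isCoh_cokernel β hGc.1 hO).1
    obtain ⟨I', e, he⟩ := exists_idealMod_iso (Abelian.image.ι β) hJc.1
    let b' : G ⟶ ClSub.idealMod I' := Abelian.factorThruImage β ≫ e.hom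
    have hb' : b' ≫ ClSub.idealModι I' = β := by rw [Category.assoc, he, Abelian.image.fac]
    haveI : Epi b' := epi_comp _ _
    have hw' : (a ≫ χ) ≫ b' = 0 := by
      rw [← cancel_mono (ClSub.idealModι I'), Category.assoc, hb', h0, zero_comp]
    have hbχ : a ≫ (χ ≫ b') = 0 := by rw [← Category.assoc]; exact hw'
    let φ : ClSub.idealMod IZ ⟶ ClSub.idealMod I' := hex.exact.desc (χ ≫ b') hbχ
    have hbφ : b ≫ φ = χ ≫ b' := hex.exact.g_desc _ hbχ
    have hφ : φ ≫ ClSub.idealModι I' = ClSub.idealModι IZ := by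
      rw [← cancel_epi b, ← Category.assoc, hbφ, Category.assoc, hb', hβ]
    -- the kernel is the line bundle
    let K := kernel b'
    have hKc : Coh.IsCoh K := H10Coh.isCoh_kernel b' hGc (hIc I').1
    let i : M ⟶ K := kernel.lift b' (a ≫ χ) hw'
    have hi : i ≫ kernel.ι b' = a ≫ χ := kernel.lift_ι _ _ _
    haveI : Mono i := mono_of_mono_fac hi
    have hdi : topologicalKrullDim (CohB1.support (cokernel i)) < ((1 : ℕ) : WithBot ℕ∞) := by
      suffices hsub : CohB1.support (cokernel i) ⊆ CohB1.support (cokernel χ) from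
        H25Euler.dim_lt_of_subset hsub hd
      intro x hx hs
      refine hx (subsingleton_of_forall_eq 0 fun c => ?_)
      obtain ⟨v, rfl⟩ := surjective_stalk_of_epi (cokernel.π i) x c
      obtain ⟨f, hf⟩ := H29RR.surjective_stalk_of_notMem_support χ (x := x) (fun h => h hs) (stalkLin (kernel.ι b') x v)
      have hb0 : stalkLin b x f = 0 := by
        haveI : Mono φ := mono_of_mono_fac hφ
        refine H17.KoszTwist.stalk_injective_of_mono φ x ?_
        rw [← H29Omega.stalkLin_comp, hbφ, H29Omega.stalkLin_comp, hf, ← H29Omega.stalkLin_comp,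
          kernel.condition, map_zero]
        exact H17.KoszTwist.stalkLin_zero _ _
      obtain ⟨m, hm⟩ := (ShortComplex.moduleCat_exact_iff _).1
        (hex.map_of_exact (DerSch.stalkFunctor X x)).exact f hb0
      have hm' : stalkLin a x m = f := hm
      have hv : stalkLin i x m = v := H17.KoszTwist.stalk_injective_of_mono (kernel.ι b') x (by
        rw [← H29Omega.stalkLin_comp, hi, H29Omega.stalkLin_comp, hm', hf])
      show stalkLin (cokernel.π i) x v = 0
      rw [← hv, ← H29Omega.stalkLin_comp, cokernel.condition]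
      exact H17.KoszTwist.stalkLin_zero _ _
    obtain ⟨r, hr⟩ := H10Coh.K3Surf.exists_extension (k := k) hX hreg hMc hKc hMc
      (H02CA.SurfStab.isReflexive_of_vb (H22Alg.KModel.finLocFree_invertible hM) hMc) i hdi (𝟙 M)
    have hri : r ≫ i = 𝟙 K := by
      refine sub_eq_zero.1 (eq_zero_of_small (k := k) hX hKc hMc hKc
        (H26TF1.isTorsionFree_of_mono' (kernel.ι b') hGt) i hdi _ ?_)
      rw [Preadditive.comp_sub, ← Category.assoc, hr, Category.id_comp, Category.comp_id, sub_self]
    haveI : IsIso i := ⟨r, hr, hri⟩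
    have hex' : (ShortComplex.mk (a ≫ χ) b' hw').ShortExact := by
      refine { exact := ?_, mono_f := inferInstanceAs (Mono (a ≫ χ)), epi_g := inferInstanceAs (Epi b') }
      exact ShortComplex.exact_of_f_is_kernel _
        (IsLimit.ofIsoLimit (kernelIsKernel b') (Fork.ext (asIso i).symm (by simp [← hi])))
    refine ⟨I', G, a ≫ χ, b', hw', φ, χ, lt_of_le_of_ne (le_of_fac φ hφ) ?_, hex', hφ, rfl, hbφ.symm⟩
    rintro rfl
    refine hF ?_
    have hid : φ = 𝟙 _ := by rw [← cancel_mono (ClSub.idealModι IZ), hφ, Category.id_comp]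
    let ψ : ShortComplex.mk a b w ⟶ ShortComplex.mk (a ≫ χ) b' hw' :=
      { τ₁ := 𝟙 M, τ₂ := χ, τ₃ := 𝟙 _
        comm₁₂ := Category.id_comp _
        comm₂₃ := hbφ.symm.trans (by rw [hid]) }
    haveI : IsIso ψ.τ₁ := inferInstanceAs (IsIso (𝟙 M))
    haveI : IsIso ψ.τ₃ := inferInstanceAs (IsIso (𝟙 (ClSub.idealMod IZ)))
    haveI : IsIso χ := ShortComplex.isIso₂_of_shortExact_of_isIso₁₃ ψ hex hex'
    exact H7Lim.ModLocFree.isFinLocFree_of_iso (asIso χ).symm hG
  · rintro ⟨I', F', a', b', w', φ, g, hlt, hex', hφ, rfl, hg⟩ hF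
    have hF'c : Coh.IsCoh F' := H10Coh.isCoh_X₂ hex' hMc (hIc I')
    have hF't : TorSh.IsTorsionFree F' := isTorsionFree_of_shortExact hex' hMt (hIt I')
    let ψ : ShortComplex.mk a b w ⟶ ShortComplex.mk (a ≫ g) b' w' :=
      { τ₁ := 𝟙 M, τ₂ := g, τ₃ := φ, comm₁₂ := Category.id_comp _, comm₂₃ := hg }
    haveI : Mono φ := mono_of_mono_fac hφ
    haveI : Mono (ShortComplex.mk (a ≫ g) b' w').f := hex'.mono_f
    haveI : Mono ψ.τ₁ := inferInstanceAs (Mono (𝟙 M))
    haveI : Mono ψ.τ₃ := ‹Mono φ›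
    haveI hgm : Mono g := ShortComplex.mono_τ₂_of_exact_of_mono ψ hex.exact
    have hdg : topologicalKrullDim (CohB1.support (cokernel g)) < ((1 : ℕ) : WithBot ℕ∞) := by
      suffices hsub : CohB1.support (cokernel g) ⊆ CohB1.support (cokernel φ) from
        H25Euler.dim_lt_of_subset hsub (hsmall φ hφ)
      intro x hx hs
      apply hx
      refine subsingleton_of_forall_eq 0 fun c => ?_
      obtain ⟨v₀, rfl⟩ := surjective_stalk_of_epi (cokernel.π g) x c
      let v : F'.presheaf.stalk x := v₀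
      obtain ⟨t, ht⟩ := H29RR.surjective_stalk_of_notMem_support φ (x := x) (fun h => h hs) (stalkLin b' x v)
      obtain ⟨f₀, rfl⟩ := surjective_stalk_of_epi b x t
      let f : F.presheaf.stalk x := f₀
      replace ht : stalkLin φ x (stalkLin b x f) = stalkLin b' x v := ht
      rw [← H29Omega.stalkLin_comp, ← hg, H29Omega.stalkLin_comp] at ht
      obtain ⟨m, hm⟩ := (ShortComplex.moduleCat_exact_iff _).1
        (hex'.map_of_exact (DerSch.stalkFunctor X x)).exact (v - stalkLin g x f)
        (show stalkLin b' x (v - stalkLin g x f) = 0 by rw [map_sub, ht, sub_self])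
      have hm' : stalkLin (a ≫ g) x m = v - stalkLin g x f := hm
      have hv : v = stalkLin g x (stalkLin a x m + f) := by
        rw [map_add, ← H29Omega.stalkLin_comp, hm']; abel
      show stalkLin (cokernel.π g) x v = 0
      rw [hv, ← H29Omega.stalkLin_comp, cokernel.condition]
      exact H17.KoszTwist.stalkLin_zero _ _
    obtain ⟨r, hr⟩ := H10Coh.K3Surf.exists_extension (k := k) hX hreg hFc hF'c hFc
      (H02CA.SurfStab.isReflexive_of_vb hF hFc) g hdg (𝟙 F)
    have hrg : r ≫ g = 𝟙 F' := sub_eq_zero.1 (eq_zero_of_small (k := k) hX hF'c hFc hF'c hF't g hdg _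
      (by rw [Preadditive.comp_sub, ← Category.assoc, hr, Category.id_comp, Category.comp_id, sub_self]))
    haveI : IsIso g := ⟨r, hr, hrg⟩
    haveI := hex'.epi_g
    haveI : Epi (b ≫ φ) := hg ▸ (inferInstance : Epi (g ≫ b'))
    haveI : Epi φ := epi_of_epi b φ
    haveI := isIso_of_mono_of_epi φ
    exact not_le_of_gt hlt (le_of_fac (inv φ) (by rw [IsIso.inv_comp_eq, hφ]))

end Groth.Agent.H7AdjExt
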